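import Groth.Agent.S0384
import Groth.Agent.Ega4B.Arc
import Groth.Agent.Books.AlgPts
import Groth.Agent.Models.WeilPts
import Mathlib.RingTheory.LaurentSeries
import Mathlib.AlgebraicGeometry.Morphisms.QuasiCompact

/-!
# Arcs witnessing that a scheme of finite type over an algebraically closed field is not proper

* `exists_arc`: if `G` is separated of finite type over the algebraically closed field `k` and not
  proper, then there is a `k((t))`-point of `G` which does not extend to a `k[[t]]`-point.
-/

set_option autoImplicit false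
universe u
open CategoryTheory MonoidalCategory CartesianMonoidalCategory MonObj AlgebraicGeometry Limits
open IsLocalRing

namespace Groth.Agent.Sga3.H783.Arc

open Groth.Agent.Books.AlgPts Groth.Agent.Models.WeilPts

/-- a quasi-compact immersion whose image is stable under specialization is a closed immersion -/
lemma exists_specializes_of_not_isClosedImmersion {X Y : Scheme.{u}} (j : X ⟶ Y)
    [IsOpenImmersion j] [QuasiCompact j] (h : ¬ IsClosedImmersion j) :
    ∃ y z : Y, y ⤳ z ∧ y ∈ Set.range j ∧ z ∉ Set.range j := by
  by_contra hcon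
  push Not at hcon
  apply h
  refine IsClosedImmersion.of_isPreimmersion _ ?_
  have h1 : SpecializingMap j := by
    intro x y hxy
    obtain ⟨z, rfl⟩ := hcon (j x) y hxy ⟨x, rfl⟩
    exact ⟨z, (j.isOpenEmbedding.isInducing.specializes_iff).1 hxy, rfl⟩
  rw [← isClosedMap_iff_specializingMap] at h1
  exact h1.isClosed_range

variable (k : Type u) [Field k] [IsAlgClosed k]

/-- the `k`-algebra structure of the stalks of a `k`-scheme -/
@[reducible] noncomputable def stalkAlgebra {X : Scheme.{u}} (g : X ⟶ Spec (CommRingCat.of k))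
    (x : X) : Algebra k (X.presheaf.stalk x) :=
  (Spec.preimage (X.fromSpecStalk x ≫ g) : CommRingCat.of k ⟶ X.presheaf.stalk x).hom.toAlgebra

lemma isAlgebraic_residueField {X : Scheme.{u}} (g : X ⟶ Spec (CommRingCat.of k))
    [LocallyOfFiniteType g] (x : X) (hx : IsClosed {x}) :
    letI := stalkAlgebra k g x
    Algebra.IsAlgebraic k (ResidueField (X.presheaf.stalk x)) := by
  let := stalkAlgebra k g x
  have h1 : (Spec.preimage (X.fromSpecStalk x ≫ g) : CommRingCat.of k ⟶ X.presheaf.stalk x) ≫
      X.residue x = (residueFieldIsoBase g x hx).inv := by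
    apply Spec.map_injective
    rw [SpecMap_residueFieldIsoBase_inv, Spec.map_comp, Spec.map_preimage, ← Category.assoc]
    rfl
  have h2 : Function.Surjective (algebraMap k (ResidueField (X.presheaf.stalk x))) := by
    have h3 : Function.Surjective (residueFieldIsoBase g x hx).inv.hom :=
      (ConcreteCategory.bijective_of_isIso (residueFieldIsoBase g x hx).inv).2
    rw [← h1] at h3
    exact h3
  exact ⟨fun z => by
    obtain ⟨c, rfl⟩ := h2 z
    exact isAlgebraic_algebraMap c⟩

/-- the inclusion of power series in Laurent series -/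
noncomputable def toLaurent (K : Type u) [Field K] : PowerSeries K →ₐ[K] LaurentSeries K :=
  { HahnSeries.ofPowerSeries ℤ K with
    commutes' := fun _ => rfl }

lemma toLaurent_injective (K : Type u) [Field K] : Function.Injective (toLaurent K) :=
  HahnSeries.ofPowerSeries_injective

/-- `k[[t]]`-points of a separated scheme are determined by the `k((t))`-points they induce -/
lemma pt_ext_laurent {K : Type u} [Field K] {X : Over (Spec (CommRingCat.of K))}
    [IsSeparated X.hom] {a b : SpecO K (PowerSeries K) ⟶ X}
    (h : specMap (toLaurent K) ≫ a = specMap (toLaurent K) ≫ b) : a = b :=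
  pt_ext (toLaurent K) (toLaurent_injective K) h

/-- **Arcs**: a separated scheme of finite type over an algebraically closed field which is not
proper has a `k((t))`-point which does not extend to `k[[t]]`. -/
theorem exists_arc (G : Over (Spec (CommRingCat.of k))) [IsSeparated G.hom]
    [LocallyOfFiniteType G.hom] [QuasiCompact G.hom] (h : ¬ IsProper G.hom) :
    ∃ f : SpecO k (LaurentSeries k) ⟶ G, ∀ f' : SpecO k (PowerSeries k) ⟶ G,
      specMap (toLaurent k) ≫ f' ≠ f := by
  obtain ⟨X, j, g, hj, hjq, hg, hjg⟩ := Groth.Agent.S0384.result G.hom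
  have hnc : ¬ IsClosedImmersion j := by
    intro hc
    apply h
    rw [← hjg]
    infer_instance
  obtain ⟨y, z, hyz, hy, hz⟩ := exists_specializes_of_not_isClosedImmersion j hnc
  -- a closed specialization of `z`
  have hlft : LocallyOfFiniteType (Over.mk g).hom := inferInstanceAs (LocallyOfFiniteType g)
  obtain ⟨x, hx⟩ := exists_pt_mem (X := Over.mk g) (U := closure {z}) ⟨z, subset_closure rfl⟩
    isClosed_closure.isLocallyClosed
  have hxc : IsClosed {pt x} := isClosed_pt x
  set p : X := pt x with hp
  have hzp : z ⤳ p := specializes_iff_mem_closure.2 hx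
  have hpj : p ∉ Set.range j := by
    intro hpj
    exact hz (hzp.mem_open j.isOpenEmbedding.isOpen_range hpj)
  have hyp : y ⤳ p := hyz.trans hzp
  -- the local ring
  let := stalkAlgebra k g p
  have hNoeth : IsLocallyNoetherian X := LocallyOfFiniteType.isLocallyNoetherian g
  have : IsNoetherianRing (X.presheaf.stalk p) := inferInstance
  have halg := isAlgebraic_residueField k g p hxc
  have hyr : y ∈ Set.range (X.fromSpecStalk p) := by
    rw [Scheme.range_fromSpecStalk]
    exact hyp
  obtain ⟨q, hq⟩ := hyr
  have hopen : IsOpen ((X.fromSpecStalk p) ⁻¹' (Set.range j)) :=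
    j.isOpenEmbedding.isOpen_range.preimage (X.fromSpecStalk p).continuous
  obtain ⟨_, ⟨a, rfl⟩, hqa, ha⟩ :=
    PrimeSpectrum.isTopologicalBasis_basic_opens.exists_subset_of_mem_open
      (show q ∈ (X.fromSpecStalk p) ⁻¹' (Set.range j) by
        change X.fromSpecStalk p q ∈ Set.range j
        rw [hq]; exact hy) hopen
  have hanil : ¬ IsNilpotent a := by
    intro hn
    obtain ⟨n, hn⟩ := hn
    have : a ^ n ∉ q.asIdeal := fun h' => hqa (q.2.mem_of_pow_mem n h')
    rw [hn] at this
    exact this (q.asIdeal.zero_mem)
  obtain ⟨φ, hφa, hφ⟩ := Groth.Agent.Ega4B.Arc.exists_arc k (X.presheaf.stalk p) halg k a hanil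
  -- the arc in `X`
  let F : SpecO k (PowerSeries k) ⟶ Over.mk g :=
    Over.homMk (Spec.map (CommRingCat.ofHom φ.toRingHom) ≫ X.fromSpecStalk p) (by
      change (Spec.map _ ≫ X.fromSpecStalk p) ≫ g = Spec.map _
      rw [Category.assoc, ← Spec.map_preimage (X.fromSpecStalk p ≫ g), ← Spec.map_comp]
      congr 1
      refine CommRingCat.hom_ext (RingHom.ext fun c => ?_)
      exact φ.commutes c)
  let io : PowerSeries k →ₐ[k] LaurentSeries k := toLaurent k
  have hio : Function.Injective io := toLaurent_injective k
  -- the generic point of the arc lies in `G`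
  have hrange : Set.range (specMap io ≫ F).left ⊆ Set.range j := by
    rintro _ ⟨w, rfl⟩
    change (Spec.map (CommRingCat.ofHom io.toRingHom) ≫
      (Spec.map (CommRingCat.ofHom φ.toRingHom) ≫ X.fromSpecStalk p)) w ∈ Set.range j
    rw [Scheme.Hom.comp_apply, Scheme.Hom.comp_apply]
    apply ha
    change a ∉ PrimeSpectrum.asIdeal _
    intro h0
    have h1 : io (φ a) ∈ w.asIdeal := h0
    have h2 : io (φ a) ≠ 0 := fun h3 => hφa (hio (by rw [h3, map_zero]))
    exact w.2.ne_top (Ideal.eq_top_of_isUnit_mem _ h1 (isUnit_iff_ne_zero.2 h2))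
  let f : SpecO k (LaurentSeries k) ⟶ G :=
    Over.homMk (IsOpenImmersion.lift j (specMap io ≫ F).left hrange) (by
      rw [← hjg, ← Category.assoc, IsOpenImmersion.lift_fac]
      exact Over.w (specMap io ≫ F))
  refine ⟨f, fun f' hf' => ?_⟩
  -- otherwise the arc would stay in `G`
  let J : G ⟶ Over.mk g := Over.homMk j hjg
  have hsep : IsSeparated (Over.mk g).hom := inferInstanceAs (IsSeparated g)
  have h1 : f ≫ J = specMap io ≫ F := by
    ext1
    exact IsOpenImmersion.lift_fac _ _ _
  have h2 : f' ≫ J = F := by
    refine pt_ext_laurent ?_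
    rw [← Category.assoc]
    change (specMap io ≫ f') ≫ J = _
    rw [show specMap io ≫ f' = f from hf', h1]
  have h3 : F.left (closedPoint (PowerSeries k)) = p := by
    change X.fromSpecStalk p (Spec.map (CommRingCat.ofHom φ.toRingHom)
      (closedPoint (PowerSeries k))) = p
    have h4 : Spec.map (CommRingCat.ofHom φ.toRingHom) (closedPoint (PowerSeries k)) =
        closedPoint (X.presheaf.stalk p) := by
      have hloc : IsLocalHom φ.toRingHom := by
        refine ⟨fun b hb => ?_⟩
        by_contra hb'
        have h5 := hφ b hb'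
        have h6 : IsUnit (PowerSeries.constantCoeff (φ b)) := hb.map _
        rw [h5] at h6
        exact not_isUnit_zero h6
      exact IsLocalRing.comap_closedPoint φ.toRingHom
    rw [h4, Scheme.fromSpecStalk_closedPoint]
  apply hpj
  rw [← h3, ← h2]
  exact ⟨f'.left (closedPoint (PowerSeries k)), rfl⟩

end Groth.Agent.Sga3.H783.Arc
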