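import Groth.Agent.S3027
import Groth.Agent.S3037
import Groth.Agent.S4112
import Groth.Agent.S0082
import Groth.Agent.Books.AntiAffine
import Groth.Agent.Sga4A.DiscGeom

/-!
# The torsion of a connected algebraic group is affine

Let `G` be a connected group scheme of finite type over a field `k` and `n` an integer invertible in
`k`.  The scheme `G[n]` of points with `g ^ n = 1` (not a subgroup in general) is affine: it is finite
over the scheme of `n`-torsion points of the affine group `G / Z(G)`.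
-/

set_option autoImplicit false
universe u
open CategoryTheory MonoidalCategory CartesianMonoidalCategory MonObj GrpObj AlgebraicGeometry Limits

namespace Groth.Agent.Sga3.H783.TorsAff

/-- the `n`-th power map of a commutative algebraic group is finite, for `n` invertible. -/
theorem isFinite_pow (k : Type u) [Field k] (Z : Over (Spec (CommRingCat.of k))) [GrpObj Z]
    [IsCommMonObj Z] [LocallyOfFiniteType Z.hom] [QuasiCompact Z.hom] (n : ℕ)
    (hn : (n : k) ≠ 0) : IsFinite ((𝟙 Z : Z ⟶ Z) ^ n).left := by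
  have hsep : IsSeparated Z.hom := Groth.Agent.Books.AntiAffine.isSeparated_hom Z
  have het : Etale ((𝟙 Z : Z ⟶ Z) ^ n).left := Groth.Agent.S4112.result k Z n hn
  have hqc : QuasiCompact ((𝟙 Z : Z ⟶ Z) ^ n).left := by
    have h1 : QuasiCompact (((𝟙 Z : Z ⟶ Z) ^ n).left ≫ Z.hom) := by
      rw [Over.w]; infer_instance
    exact QuasiCompact.of_comp ((𝟙 Z : Z ⟶ Z) ^ n).left Z.hom
  have hmon : IsMonHom ((𝟙 Z : Z ⟶ Z) ^ n) := by
    refine ⟨?_, ?_⟩
    · rw [MonObj.comp_pow, Category.comp_id]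
      have h1 : (η[Z] : 𝟙_ (Over (Spec (CommRingCat.of k))) ⟶ Z) = 1 := by
        rw [MonObj.one_eq_one]
      rw [h1, one_pow]
    · rw [MonObj.comp_pow, Category.comp_id, MonObj.mul_eq_mul, mul_pow, MonObj.comp_mul]
      simp [MonObj.comp_pow]
  rw [Groth.Agent.S3037.result k Z Z ((𝟙 Z : Z ⟶ Z) ^ n)]
  have hsub : Subsingleton (𝟙_ (Over (Spec (CommRingCat.of k)))).left :=
    inferInstanceAs (Subsingleton (PrimeSpectrum k))
  have hdisc : DiscreteTopology (𝟙_ (Over (Spec (CommRingCat.of k)))).left := inferInstance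
  exact Groth.Agent.Sga4A.DiscGeom.discreteTopology_of_etale
    (pullback.snd ((𝟙 Z : Z ⟶ Z) ^ n).left (η[Z] : 𝟙_ (Over (Spec (CommRingCat.of k))) ⟶ Z).left)

/-- **The scheme of `n`-torsion points of a connected algebraic group is affine** (`n` invertible). -/
theorem isAffine_torsion (k : Type u) [Field k] (G : Over (Spec (CommRingCat.of k))) [GrpObj G]
    [LocallyOfFiniteType G.hom] [QuasiCompact G.hom] [ConnectedSpace G.left] (n : ℕ)
    (hn : (n : k) ≠ 0) {E : Over (Spec (CommRingCat.of k))} (e : E ⟶ G)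
    (he : IsPullback e (toUnit E) ((𝟙 G : G ⟶ G) ^ n) η[G]) : IsAffine E.left := by
  obtain ⟨Z, gZ, i, hi, hcl, hcen, Q, gQ, q, hq, hQa, hQlft, hqf, hqs, hker⟩ :=
    Groth.Agent.S3027.result k G
  have hmono : Mono i := by
    have : Mono i.left := inferInstance
    exact Over.mono_of_mono_left i
  have hcommi : ∀ {T : Over (Spec (CommRingCat.of k))} (z : T ⟶ Z) (h : T ⟶ G),
      (z ≫ i) * h = h * (z ≫ i) := by
    intro T z h
    have h1 := (hcen T (z ≫ i)).1 ⟨z, rfl⟩ T (𝟙 _) h
    rwa [Category.id_comp] at h1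
  have hcomm : IsCommMonObj Z := by
    constructor
    apply (cancel_mono i).1
    have h1 := hcommi (fst Z Z) (snd Z Z ≫ i)
    have h2 : μ[Z] = fst Z Z * snd Z Z := MonObj.mul_eq_mul _
    have h3 : (β_ Z Z).hom ≫ μ[Z] = snd Z Z * fst Z Z := by
      rw [h2, MonObj.comp_mul]
      simp
    rw [h3, h2, MonObj.mul_comp, MonObj.mul_comp, h1]
  have hlft : LocallyOfFiniteType Z.hom := by
    rw [← Over.w i]; infer_instance
  have hqc : QuasiCompact Z.hom := by
    rw [← Over.w i]; infer_instance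
  have hfin : IsFinite ((𝟙 Z : Z ⟶ Z) ^ n).left := isFinite_pow k Z n hn
  have hiq : ∀ {T : Over (Spec (CommRingCat.of k))} (z : T ⟶ Z), z ≫ i ≫ q = 1 := by
    intro T z
    rw [hker.w, ← Category.assoc, toUnit_unique (z ≫ toUnit Z) (toUnit T)]
    rfl
  -- the auxiliary scheme `W`
  let c : Z ⟶ G := ((𝟙 Z : Z ⟶ Z) ^ n) ≫ i
  let d : G ⟶ G := ((𝟙 G : G ⟶ G) ^ n)⁻¹
  let W := pullback c d
  let a : W ⟶ Z := pullback.fst c d
  let g : W ⟶ G := pullback.snd c d
  have hc : IsAffineHom c.left := by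
    change IsAffineHom (((𝟙 Z : Z ⟶ Z) ^ n).left ≫ i.left)
    infer_instance
  have hag : ∀ {T : Over (Spec (CommRingCat.of k))} (z : T ⟶ Z) (h : T ⟶ G),
      (h * (z ≫ i)) ^ n = 1 ↔ z ≫ c = h ≫ d := by
    intro T z h
    have h1 : (h * (z ≫ i)) ^ n = h ^ n * (z ≫ i) ^ n :=
      Commute.mul_pow (hcommi z h).symm n
    have h2 : z ≫ c = (z ≫ i) ^ n := by
      change z ≫ ((𝟙 Z : Z ⟶ Z) ^ n) ≫ i = _
      rw [MonObj.pow_comp, Category.id_comp, MonObj.comp_pow]
    have h3 : h ≫ d = (h ^ n)⁻¹ := by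
      change h ≫ ((𝟙 G : G ⟶ G) ^ n)⁻¹ = _
      rw [GrpObj.comp_inv, MonObj.comp_pow, Category.comp_id]
    rw [h1, h2, h3]
    exact mul_eq_one_iff_eq_inv'
  have hlift : ∀ {T : Over (Spec (CommRingCat.of k))} (h : T ⟶ G), h ^ n = 1 →
      ∃ t : T ⟶ E, t ≫ e = h := by
    intro T h hh
    refine ⟨he.lift h (toUnit T) ?_, he.lift_fst _ _ _⟩
    rw [MonObj.comp_pow, Category.comp_id, hh]
    rfl
  have hpowe : ∀ {T : Over (Spec (CommRingCat.of k))} (t : T ⟶ E), (t ≫ e) ^ n = 1 := by
    intro T t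
    have h1 := t ≫= he.w
    rw [← Category.assoc, MonObj.comp_pow, Category.comp_id] at h1
    rw [h1]
    rw [← Category.assoc, toUnit_unique (t ≫ toUnit E) (toUnit T)]
    rfl
  have hemono : Mono e := by
    have h1 : Mono (η[G] : 𝟙_ (Over (Spec (CommRingCat.of k))) ⟶ G) := by
      constructor
      intro T x y _
      exact toUnit_unique _ _
    exact he.flip.mono_snd_of_mono
  obtain ⟨w, hw⟩ := hlift (g * (a ≫ i)) ((hag a g).2 pullback.condition)
  have hsq : IsPullback g w q (e ≫ q) := by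
    refine IsPullback.mk' ?_ ?_ ?_
    · rw [← Category.assoc w, hw, MonObj.mul_comp, Category.assoc, hiq, _root_.mul_one]
    · intro T φ φ' h1 h2
      refine pullback.hom_ext ?_ h1
      change φ ≫ a = φ' ≫ a
      have h3 : φ ≫ w ≫ e = φ' ≫ w ≫ e := by
        rw [← Category.assoc, h2, Category.assoc]
      rw [hw, MonObj.comp_mul, MonObj.comp_mul, h1, ← Category.assoc, ← Category.assoc] at h3
      exact (cancel_mono i).1 (mul_left_cancel h3)
    · intro T h x hx
      have h1 : (h⁻¹ * (x ≫ e)) ≫ q = 1 := by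
        rw [MonObj.mul_comp, GrpObj.inv_comp, hx, Category.assoc, inv_mul_cancel]
      let z : T ⟶ Z := hker.lift (h⁻¹ * (x ≫ e)) (toUnit T) (h1.trans rfl)
      have hz : z ≫ i = h⁻¹ * (x ≫ e) := hker.lift_fst _ _ _
      have hz' : h * (z ≫ i) = x ≫ e := by rw [hz, mul_inv_cancel_left]
      have h2 : z ≫ c = h ≫ d := by
        rw [← hag, hz']
        exact hpowe x
      refine ⟨pullback.lift z h h2, pullback.lift_snd _ _ _, ?_⟩
      rw [← cancel_mono e, Category.assoc, hw, MonObj.comp_mul, ← Category.assoc _ a i]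
      have h3 : pullback.lift z h h2 ≫ g = h := pullback.lift_snd _ _ _
      have h4 : pullback.lift z h h2 ≫ a = z := pullback.lift_fst _ _ _
      rw [h3, h4, hz']
  have hsq' := hsq.map (Over.forget _)
  have hpb' := (IsPullback.of_hasPullback c d).map (Over.forget _)
  have hga : IsAffineHom g.left :=
    MorphismProperty.of_isPullback (P := @IsAffineHom) hpb' hc
  have hqqc : QuasiCompact q.left := by
    have h1 : QuasiCompact (q.left ≫ Q.hom) := by rw [Over.w]; infer_instance
    have hsep : IsSeparated Q.hom := Groth.Agent.Books.AntiAffine.isSeparated_hom Q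
    exact QuasiCompact.of_comp q.left Q.hom
  have := Groth.Agent.S0082.result.{u}
  have hea : IsAffineHom (e ≫ q).left :=
    MorphismProperty.of_isPullback_of_descendsAlong (P := @IsAffineHom)
      (Q := (@Surjective ⊓ @Flat ⊓ @QuasiCompact : MorphismProperty Scheme.{u})) hsq'
      ⟨⟨hqs, hqf⟩, hqqc⟩ hga
  exact isAffine_of_isAffineHom (e ≫ q).left

/-- A scheme affine over a connected algebraic group, and killed by `n`, is affine. -/
theorem isAffine_of_pow_eq_one (k : Type u) [Field k] (G : Over (Spec (CommRingCat.of k))) [GrpObj G]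
    [LocallyOfFiniteType G.hom] [QuasiCompact G.hom] [ConnectedSpace G.left] (n : ℕ)
    (hn : (n : k) ≠ 0) {X : Over (Spec (CommRingCat.of k))} (x : X ⟶ G) [IsAffineHom x.left]
    (hx : x ^ n = 1) : IsAffine X.left := by
  let E := pullback ((𝟙 G : G ⟶ G) ^ n) η[G]
  let e : E ⟶ G := pullback.fst ((𝟙 G : G ⟶ G) ^ n) η[G]
  have he : IsPullback e (toUnit E) ((𝟙 G : G ⟶ G) ^ n) η[G] := by
    have h1 := IsPullback.of_hasPullback ((𝟙 G : G ⟶ G) ^ n) η[G]
    rwa [toUnit_unique (pullback.snd ((𝟙 G : G ⟶ G) ^ n) η[G]) (toUnit E)] at h1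
  have hE : IsAffine E.left := isAffine_torsion k G n hn e he
  let y : X ⟶ E := he.lift x (toUnit X) (by rw [MonObj.comp_pow, Category.comp_id, hx]; rfl)
  have hy : y ≫ e = x := he.lift_fst _ _ _
  have hemono : Mono e := by
    have h1 : Mono (η[G] : 𝟙_ (Over (Spec (CommRingCat.of k))) ⟶ G) := by
      constructor
      intro T x y _
      exact toUnit_unique _ _
    exact he.flip.mono_snd_of_mono
  have hsq : IsPullback y (𝟙 X) e x := by
    refine IsPullback.mk' ?_ ?_ ?_
    · rw [hy, Category.id_comp]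
    · intro T φ φ' _ h2
      simpa using h2
    · intro T a b hab
      refine ⟨b, ?_, Category.comp_id _⟩
      rw [← cancel_mono e, Category.assoc, hy, hab]
  have hsq' := hsq.map (Over.forget _)
  have hya : IsAffineHom y.left :=
    MorphismProperty.of_isPullback (P := @IsAffineHom) hsq'.flip ‹IsAffineHom x.left›
  exact isAffine_of_isAffineHom y.left

end Groth.Agent.Sga3.H783.TorsAff
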